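import Cfsg.Agent.H148.SP.Frame
import Cfsg.Agent.H148.GG.Count

/-!
# S4884, helper148: the frame of `PSp_{2m}(q)`, `q` even (hypotheses of the theory of the own characteristic)
-/

set_option autoImplicit false
set_option linter.unusedSectionVars false

namespace Cfsg.Agent.H148.SP

open Cfsg Cfsg.Agent.ClassicalGeometry.SympBasic
open Cfsg.Agent.ChevalleyStructure.CoxeterGeom Cfsg.Agent.Tits.Roots
open Cfsg.Agent.Nodes Cfsg.Agent.Nodes.TypeC Cfsg.Agent.Nodes.WittRoot Cfsg.Agent.Nodes.WittRGD Cfsg.Agent.Nodes.WittAll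
  Cfsg.Agent.Nodes.WittU
open Cfsg.Agent.Nodes.Comb Cfsg.Agent.Nodes.Reps Cfsg.Agent.Nodes.BNOf Cfsg.Agent.Nodes.RGDLib Cfsg.Agent.Nodes.Bruhat
open Cfsg.Agent.TitsThree Cfsg.Agent.TitsThree.Siegel Cfsg.Agent.TitsThree.WittFrame
  Cfsg.Agent.TitsThree.WittWeyl Cfsg.Agent.TitsThree.SpIdent Cfsg.Agent.TitsThree.FrameCN
open Cfsg.Agent.H148.GG Cfsg.Agent.Omega.EH3.Kf Cfsg.Agent.Omega.EH3.Kf.Lev

variable {m : ℕ} {F : Type*} [Field F]

theorem exists_sqrt [Finite F] [CharP F 2] (c : Fˣ) : ∃ s : Fˣ, s * s = c := by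
  have := Fintype.ofFinite F
  have h2 : ringChar F = 2 := ringChar.eq F 2 ▸ rfl
  obtain ⟨s, hs⟩ := FiniteField.isSquare_of_char_two (F := F) h2 (c : F)
  have h0 : s ≠ 0 := by
    rintro rfl
    rw [mul_zero] at hs
    exact c.ne_zero hs
  exact ⟨Units.mk0 s h0, Units.ext (by rw [Units.val_mul, Units.val_mk0, ← hs])⟩

/-- the root group datum -/
theorem rgd [Finite F] [CharP F 2] {W : Type*} [Group W] (cs : CoxeterSystem (CoxeterMatrix.B m) W) :
    RGD cs (isCartan m) 2 (WittModel.T (KInstSp.model m F))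
      (fun i => (KInstSp.model m F).φ ⟨nn (frame m F) (adm 1) i,
        nn_mem (AmbT.of_amb (amb_Sp (F := F) (m := m)) 2) (adm 1) i⟩) (WittModel.X (KInstSp.model m F)) :=
  have : Fact (Nat.Prime 2) := ⟨Nat.prime_two⟩
  rgdC_model (KInstSp.model m F) (AmbT.of_amb amb_Sp 2) (p0 := adm 1) one_ne_zero cs

theorem GG_eq_top (hm : 0 < m) {W : Type*} [Group W] (cs : CoxeterSystem (CoxeterMatrix.B m) W) :
    GG cs (isCartan m) (WittModel.T (KInstSp.model m F)) (WittModel.X (KInstSp.model m F)) = ⊤ := by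
  rw [eq_top_iff, ← WittModel.G1_eq_top (KInstSp.model m F) hm cs]
  exact le_sup_right

theorem odd_T [Finite F] [CharP F 2] : Odd (Nat.card (WittModel.T (KInstSp.model m F))) := by
  have h := (rgd (m := m) (F := F) (CoxeterMatrix.B m).toCoxeterSystem).tcop
  exact Nat.coprime_two_right.1 h

theorem commGen [Finite F] (hm : 2 ≤ m) (hF : 2 < Nat.card F) {W : Type*} [Group W]
    (cs : CoxeterSystem (CoxeterMatrix.B m) W) : CommGen cs (isCartan m) (WittModel.X (KInstSp.model m F)) := by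
  have := Fintype.ofFinite F
  rw [Nat.card_eq_fintype_card] at hF
  obtain ⟨t, ht0, ht1⟩ := Cfsg.Agent.H396.CommTab.exists_ne hF
  have hw : ∀ p : (SpIdent.frame m F).Adm, p.w = 0 := fun p =>
    (Submodule.mem_bot F).1 ((SpIdent.frame m F).ok_mem p.ok)
  have hG := TwWitt.gd_of_sp (KInstSp.model m F) hw (fun _ => rfl) (fun c => ⟨SpIdent.adm c, rfl⟩) ht0 ht1
  exact fun _ hr h0 hs => hG.gen _ hr h0 hs

/-- **the anti-automorphism** -/
theorem anti [Finite F] [CharP F 2] (hm : 0 < m) {W : Type*} [Group W] [Finite W]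
    (cs : CoxeterSystem (CoxeterMatrix.B m) W) :
    Anti (rgd (F := F) cs) (fun k => jK m F * k⁻¹ * (jK m F)⁻¹) := by
  refine anti_of_root (rgd cs) (GG_eq_top hm cs) (fun x y => by group) (fun x => ?_) (fun t ht => jK_tor ht)
    (fun x hx u hu => jK_root cs hx hu)
  have h1 := jK_sq (m := m) (F := F) x
  have e : jK m F * (jK m F * x⁻¹ * (jK m F)⁻¹)⁻¹ * (jK m F)⁻¹ = jK m F * jK m F * x * (jK m F * jK m F)⁻¹ := by group
  change jK m F * (jK m F * x⁻¹ * (jK m F)⁻¹)⁻¹ * (jK m F)⁻¹ = x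
  rw [e, h1, mul_inv_cancel_right]

/-- **the coordinates** -/
noncomputable def adj (m : ℕ) (F : Type*) [Field F] [Finite F] [CharP F 2] :
    Adj (WittModel.T (KInstSp.model m F)) (WittModel.X (KInstSp.model m F)) (fun _ : Fin m => F) :=
  (par m F exists_sqrt).adj

/-- hypothesis `hT` -/
theorem hT [Finite F] [CharP F 2] (hm : 0 < m) (hZ : Subgroup.center (PSp m F) = ⊥)
    (t : ↥(WittModel.T (KInstSp.model m F))) (ht : ∀ i, (adj m F).a i t = 1) : t = 1 := by
  have : Finite (CoxeterMatrix.B m).Group := finite_W (CoxeterMatrix.B m).toCoxeterSystem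
  exact faithful (rgd (F := F) (CoxeterMatrix.B m).toCoxeterSystem) (GG_eq_top hm _) (fun s hs t ht => T_comm hs ht) hZ
    (adj m F) t ht

open Cfsg.Agent.H40.OC in
/-- hypothesis `hN` -/
theorem hN [Finite F] [CharP F 2] (hm : 2 ≤ m) (hF : 2 < Nat.card F) {W : Type*} [Group W] [Finite W]
    (cs : CoxeterSystem (CoxeterMatrix.B m) W)
    (f : ↥(UU cs (isCartan m) (WittModel.X (KInstSp.model m F))) →* ℂˣ)
    (u : ↥(UU cs (isCartan m) (WittModel.X (KInstSp.model m F))))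
    (hu : ∀ i, co (rgd cs) (adj m F) i u = 1) : f u = 1 :=
  lin_of_commGen (rgd cs) (commGen hm hF cs) (adj m F) f u hu

end Cfsg.Agent.H148.SP
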