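import Cfsg.Agent.H148.SP.Lin
import Cfsg.Agent.H148.GG.Par
import Cfsg.Agent.H148.GG.GGOne
import Cfsg.Agent.H396.CommTab1

/-!
# S4884, helper148: the frame of `PSp_{2m}(q)`, `q` even

`R` (root group datum), `par` (`Par`, hence `Adj`), `anti`, `card_T_odd`, `commGen`, `GG = ⊤`.
-/

set_option autoImplicit false
set_option linter.unusedSectionVars false

namespace Cfsg.Agent.H148.SP

open Cfsg Cfsg.Agent.ClassicalGeometry.SympBasic
open Cfsg.Agent.ChevalleyStructure.CoxeterGeom Cfsg.Agent.Tits.Roots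
open Cfsg.Agent.Nodes Cfsg.Agent.Nodes.TypeC Cfsg.Agent.Nodes.WittRoot Cfsg.Agent.Nodes.WittRGD Cfsg.Agent.Nodes.WittAll
  Cfsg.Agent.Nodes.WittU
open Cfsg.Agent.Nodes.Comb Cfsg.Agent.Nodes.Reps Cfsg.Agent.Nodes.BNOf Cfsg.Agent.Nodes.RGDLib
open Cfsg.Agent.TitsThree Cfsg.Agent.TitsThree.Siegel Cfsg.Agent.TitsThree.WittFrame
  Cfsg.Agent.TitsThree.WittWeyl Cfsg.Agent.TitsThree.SpIdent Cfsg.Agent.TitsThree.FrameCN
open Cfsg.Agent.H148.GG

variable {m : ℕ} {F : Type*} [Field F]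

/-! ### the simple root elements -/

/-- the simple root elements -/
def gl (i : Fin m) (s : F) : (Fin m ⊕ Fin m → F) ≃ₗ[F] (Fin m ⊕ Fin m → F) :=
  if (i : ℕ) + 1 < m then (frame m F).X (i, true) (nx i) s else (frame m F).Z (i, true) (adm s)

theorem nx_of {i : Fin m} (hi : (i : ℕ) + 1 < m) : nx i = (⟨i + 1, hi⟩, false) := by
  unfold nx; rw [dif_pos hi]

theorem nx_not {i : Fin m} (hi : ¬ (i : ℕ) + 1 < m) : nx i = (i, true) := by
  unfold nx; rw [dif_neg hi]

theorem nx_ne {i : Fin m} (hi : (i : ℕ) + 1 < m) : ((i, true) : Fin m × Bool).1 ≠ (nx i).1 := by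
  rw [nx_of hi]; simp [Fin.ext_iff]

theorem gl_pos {i : Fin m} (hi : (i : ℕ) + 1 < m) (s : F) : gl i s = (frame m F).X (i, true) (nx i) s := if_pos hi

theorem gl_neg {i : Fin m} (hi : ¬ (i : ℕ) + 1 < m) (s : F) : gl i s = (frame m F).Z (i, true) (adm s) := if_neg hi

theorem gl_mem (i : Fin m) (s : F) : gl i s ∈ isos (form m F) := by
  unfold gl
  split_ifs
  · exact (frame m F).isIso_X _ _ _
  · exact (frame m F).isIso_Z _ _

theorem gl_add (i : Fin m) (s t : F) : gl i (s + t) = gl i s * gl i t := by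
  by_cases hi : (i : ℕ) + 1 < m
  · rw [gl_pos hi, gl_pos hi, gl_pos hi, (frame m F).X_add]
  · rw [gl_neg hi, gl_neg hi, gl_neg hi, adm_add, (frame m F).Z_mul]

theorem gl_zero (i : Fin m) : gl i (0 : F) = 1 := by
  have := gl_add i (0 : F) 0
  rw [add_zero] at this
  exact mul_eq_left.mp this.symm

theorem gl_mem_rg (i : Fin m) (s : F) : gl i s ∈ WittRoot.rg (frame m F) (sr i) := by
  rw [rg_sr]
  by_cases hi : (i : ℕ) + 1 < m
  · rw [gl_pos hi, PG_ne _ (nx_ne hi)]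
    exact ⟨s, rfl⟩
  · rw [gl_neg hi, nx_not hi, PG_self]
    exact ⟨adm s, rfl⟩

theorem exists_gl {i : Fin m} {g : (Fin m ⊕ Fin m → F) ≃ₗ[F] (Fin m ⊕ Fin m → F)}
    (hg : g ∈ WittRoot.rg (frame m F) (sr i)) : ∃ s, g = gl i s := by
  rw [rg_sr] at hg
  by_cases hi : (i : ℕ) + 1 < m
  · rw [PG_ne _ (nx_ne hi)] at hg
    obtain ⟨s, rfl⟩ := hg
    exact ⟨s, (gl_pos hi s).symm⟩
  · rw [nx_not hi, PG_self] at hg
    obtain ⟨q, rfl⟩ := hg
    exact ⟨q.c, by rw [gl_neg hi, ← eq_adm]⟩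

/-- only the trivial root element is a scalar -/
theorem eq_zero_of_scalar {i : Fin m} {s a : F} (h : ∀ v, gl i s v = a • v) : s = 0 := by
  by_cases hi : (i : ℕ) + 1 < m
  · have h1 := h ((frame m F).b (neg (nx i)))
    rw [gl_pos hi, X_apply_neg _ (nx_ne hi)] at h1
    have h2 := congrArg (fun v => (form m F).h ((frame m F).b (neg (i, true))) v) h1
    rw [(form m F).add_right, (form m F).smul_right, (form m F).smul_right, form_σ, form_σ, (frame m F).hb_neg_self,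
      (frame m F).hb_of_ne (x := neg (i, true)) (y := neg (nx i)) (nx_ne hi), zero_add, mul_zero] at h2
    exact (mul_eq_zero.1 h2).resolve_right ((frame m F).η_ne _)
  · have h1 := h ((frame m F).b (neg (i, true)))
    rw [gl_neg hi, Z_apply_neg] at h1
    have h2 := congrArg (fun v => (form m F).h ((frame m F).b (neg (i, true))) v) h1
    have h3 : (adm s : (frame m F).Adm).w = 0 := rfl
    have h4 : (adm s : (frame m F).Adm).c = s := rfl
    rw [h3, h4, smul_zero, add_zero, (form m F).add_right, (form m F).smul_right, (form m F).smul_right, form_σ, form_σ,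
      (frame m F).hb_neg_self, (frame m F).hb_self, zero_add, mul_zero] at h2
    have h5 := (frame m F).η_ne (i, true)
    rcases mul_eq_zero.1 h2 with h6 | h6
    · exact (mul_eq_zero.1 h6).resolve_right h5
    · exact absurd h6 h5

/-- conjugation by diagonal elements -/
theorem gl_conj {g : (Fin m ⊕ Fin m → F) ≃ₗ[F] (Fin m ⊕ Fin m → F)} (hg : (form m F).IsIso g) {i : Fin m} {a b : F}
    (ha : g ((frame m F).b (i, true)) = a • (frame m F).b (i, true)) (hb : g ((frame m F).b (nx i)) = b • (frame m F).b (nx i))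
    (s : F) : g * gl i s * g⁻¹ = gl i (a * b * s) := by
  by_cases hi : (i : ℕ) + 1 < m
  · rw [gl_pos hi, gl_pos hi, conj_X _ hg (nx_ne hi) (nx_ne hi) ha hb, form_σ]
    congr 1
    have := (frame m F).η_ne (nx i)
    field_simp
  · rw [nx_not hi, ha] at hb
    have hab : a = b := by
      have h1 : (a - b) • (frame m F).b (i, true) = 0 := by rw [sub_smul, hb, sub_self]
      rcases smul_eq_zero.1 h1 with h2 | h2
      · exact sub_eq_zero.1 h2
      · exact absurd h2 (b_ne_zero _)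
    subst hab
    rw [gl_neg hi, gl_neg hi, conj_Z _ hg ha (adm s) (adm s) (map_zero g) rfl]
    congr 1
    apply Frame.Adm.ext
    · rw [Frame.Adm.smul_w]
      exact smul_zero _
    · rw [Frame.Adm.smul_c, form_σ, form_σ]
      rfl

/-! ### the parametrisation -/

/-- the parametrisations of the simple root groups -/
noncomputable def y (i : Fin m) : Multiplicative F →* PSp m F where
  toFun s := toPSp ⟨gl i (Multiplicative.toAdd s), gl_mem _ _⟩
  map_one' := by
    have h1 : (⟨gl i (Multiplicative.toAdd (1 : Multiplicative F)), gl_mem _ _⟩ : isos (form m F)) = 1 :=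
      Subtype.ext (gl_zero i)
    rw [h1, map_one]
  map_mul' s t := by
    rw [← map_mul]
    congr 1
    exact Subtype.ext (gl_add i _ _)

theorem y_apply (i : Fin m) (s : F) : y i (Multiplicative.ofAdd s) = toPSp ⟨gl i s, gl_mem _ _⟩ := rfl

theorem y_inj (i : Fin m) : Function.Injective (y (F := F) i) := by
  rw [injective_iff_map_eq_one]
  intro s hs
  obtain ⟨a, -, ha⟩ := exists_smul_of_toPSp_eq_one hs
  exact Multiplicative.toAdd.injective (eq_zero_of_scalar ha)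

theorem y_range (i : Fin m) : (y (F := F) i).range = WittModel.X (KInstSp.model m F) (sr i) := by
  ext k
  rw [MonoidHom.mem_range, WittModel.mem_X]
  constructor
  · rintro ⟨s, rfl⟩
    exact ⟨gl i (Multiplicative.toAdd s), gl_mem _ _, gl_mem_rg _ _, rfl⟩
  · rintro ⟨g, hg, h1, rfl⟩
    obtain ⟨s, rfl⟩ := exists_gl h1
    exact ⟨Multiplicative.ofAdd s, rfl⟩

theorem mem_T {t : PSp m F} : t ∈ WittModel.T (KInstSp.model m F) ↔
    ∃ (g : (Fin m ⊕ Fin m → F) ≃ₗ[F] (Fin m ⊕ Fin m → F)) (hg : g ∈ isos (form m F)),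
      g ∈ Tor (frame m F) (isos (form m F)) ∧ t = toPSp ⟨g, hg⟩ := by
  constructor
  · rintro ⟨⟨g, hg⟩, h, rfl⟩
    exact ⟨g, hg, h, rfl⟩
  · rintro ⟨g, hg, h, rfl⟩
    exact Subgroup.mem_map_of_mem _ (Subgroup.mem_subgroupOf.2 h)

theorem y_conj {g : (Fin m ⊕ Fin m → F) ≃ₗ[F] (Fin m ⊕ Fin m → F)} (hg : g ∈ isos (form m F)) {i : Fin m} {a b : F}
    (ha : g ((frame m F).b (i, true)) = a • (frame m F).b (i, true)) (hb : g ((frame m F).b (nx i)) = b • (frame m F).b (nx i))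
    (s : F) : toPSp ⟨g, hg⟩ * y i (Multiplicative.ofAdd s) * (toPSp ⟨g, hg⟩)⁻¹ = y i (Multiplicative.ofAdd (a * b * s)) := by
  rw [y_apply, y_apply, ← map_inv, ← map_mul, ← map_mul]
  congr 1
  exact Subtype.ext (gl_conj hg ha hb s)

/-- **the parametrised simple root groups** -/
noncomputable def par (m : ℕ) (F : Type*) [Field F] (hsq : ∀ c : Fˣ, ∃ s : Fˣ, s * s = c) :
    Par (WittModel.T (KInstSp.model m F)) (WittModel.X (KInstSp.model m F)) (fun _ : Fin m => F) where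
  y := y
  inj := y_inj
  range := y_range
  act i t ht := by
    obtain ⟨g, hg, hT, rfl⟩ := mem_T.1 ht
    obtain ⟨a, ha0, ha⟩ := hT.2 (i, true)
    obtain ⟨b, hb0, hb⟩ := hT.2 (nx i)
    exact ⟨Units.mk0 (a * b) (mul_ne_zero ha0 hb0), fun s => y_conj hg ha hb s⟩
  surj c := by
    obtain ⟨l, h1, h2⟩ := exists_scal hsq c
    refine ⟨toPSp ⟨dg l, isIso_dg l⟩, mem_T.2 ⟨dg l, isIso_dg l, dg_mem_tor l, rfl⟩, fun i s => ?_⟩
    rw [y_conj (g := dg l) (isIso_dg l) (dg_b l (i, true)) (dg_b l (nx i)) s, ← Units.val_mul]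
    congr 4
    by_cases hi : (i : ℕ) + 1 < m
    · rw [← h1 i hi, nx_of hi]
      simp [fs]
    · rw [← h2 i hi, nx_not hi]
      simp [fs]

/-! ### the opposition -/

/-- the opposition element -/
noncomputable def jK (m : ℕ) (F : Type*) [Field F] : PSp m F := toPSp ⟨jj m F, isIso_jj⟩

theorem jK_sq (k : PSp m F) : jK m F * jK m F * k = k * (jK m F * jK m F) := by
  obtain ⟨g, rfl⟩ := toPSp_surjective k
  rw [jK, ← map_mul, ← map_mul, ← map_mul]
  congr 1
  exact Subtype.ext (jj_sq_comm g.1)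

theorem jK_tor {t : PSp m F} (ht : t ∈ WittModel.T (KInstSp.model m F)) : jK m F * t⁻¹ * (jK m F)⁻¹ = t := by
  obtain ⟨g, hg, hT, rfl⟩ := mem_T.1 ht
  rw [jK, ← map_inv, ← map_inv, ← map_mul, ← map_mul]
  congr 1
  exact Subtype.ext (jj_tor hT)

theorem T_comm {s t : PSp m F} (hs : s ∈ WittModel.T (KInstSp.model m F)) (ht : t ∈ WittModel.T (KInstSp.model m F)) :
    s * t = t * s := by
  obtain ⟨g, hg, hT, rfl⟩ := mem_T.1 hs
  obtain ⟨k, hk, hT', rfl⟩ := mem_T.1 ht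
  rw [← map_mul, ← map_mul]
  congr 1
  exact Subtype.ext (tor_comm hT hT')

theorem jK_root {W : Type*} [Group W] (cs : CoxeterSystem (CoxeterMatrix.B m) W) {x : Fin m → ℤ}
    (hx : IsRoot cs (isCartan m) x) {u : PSp m F} (hu : u ∈ WittModel.X (KInstSp.model m F) x) :
    jK m F * u⁻¹ * (jK m F)⁻¹ ∈ WittModel.X (KInstSp.model m F) (-x) := by
  obtain ⟨g, hg, hgx, rfl⟩ := WittModel.mem_X (KInstSp.model m F) |>.1 hu
  obtain ⟨a, b, hab, ex⟩ := exists_of_isRoot cs hx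
  have h1 : jj m F * g⁻¹ * (jj m F)⁻¹ ∈ WittRoot.rg (frame m F) (-x) := by
    have e2 : ee (-x) = wt (ng a) + wt (ng b) := by rw [ee_neg, ex, wt_ng, wt_ng]; abel
    rw [rg_eq _ hab.ng e2]
    have h2 : g⁻¹ ∈ PG (frame m F) a b := by
      rw [← rg_eq _ hab ex]
      exact inv_mem hgx
    have h3 := (amb_Sp (F := F) (m := m)).conj_PG (g := jj m F) isIso_jj mono_jj (ρ := ng) (fun x => ng_ng x) hab hab.ng
      (fun h => h)
    exact h3 (conj_mem_cj.2 h2)
  have hm : jj m F * g⁻¹ * (jj m F)⁻¹ ∈ isos (form m F) := mul_mem (mul_mem isIso_jj (inv_mem hg)) (inv_mem isIso_jj)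
  have e : jK m F * ((KInstSp.model m F).φ ⟨g, hg⟩)⁻¹ * (jK m F)⁻¹ =
      (KInstSp.model m F).φ ⟨jj m F * g⁻¹ * (jj m F)⁻¹, hm⟩ := by
    have e1 : ∀ u v : isos (form m F), toPSp u * (toPSp v)⁻¹ * (toPSp u)⁻¹ = toPSp (u * v⁻¹ * u⁻¹) := by
      intro u v
      rw [map_mul, map_mul, map_inv, map_inv]
    exact e1 ⟨jj m F, isIso_jj⟩ ⟨g, hg⟩
  rw [e]
  exact WittModel.mem_X_of _ hm h1

end Cfsg.Agent.H148.SP
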