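import Cfsg.Agent.Nodes.WittU
import Cfsg.Agent.Nodes.WittAll
import Cfsg.Agent.TitsThree.KInstSp

/-!
# S4884, helper148: diagonal elements and the opposition element of `Sp_{2m}(F)`

* `dg l` : the diagonal isometry with `e_i ↦ l_i e_i`, `f_i ↦ l_i⁻¹ f_i`; `tor_ext` : the torus consists of them;
* `jj` : the isometry `e_i ↦ f_i ↦ -e_i`;
* `exists_scal` : in characteristic two all the scalars on the simple root groups occur.
-/

set_option autoImplicit false
set_option linter.unusedSectionVars false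

namespace Cfsg.Agent.H148.SP

open Cfsg Cfsg.Agent.ClassicalGeometry.SympBasic
open Cfsg.Agent.Nodes Cfsg.Agent.Nodes.TypeC Cfsg.Agent.Nodes.WittRoot Cfsg.Agent.Nodes.WittRGD
open Cfsg.Agent.TitsThree Cfsg.Agent.TitsThree.Siegel Cfsg.Agent.TitsThree.WittFrame
  Cfsg.Agent.TitsThree.WittWeyl Cfsg.Agent.TitsThree.SpIdent

variable {m : ℕ} {F : Type*} [Field F]

/-- the diagonal elements -/
def dg (l : Fin m → Fˣ) : (Fin m ⊕ Fin m → F) ≃ₗ[F] (Fin m ⊕ Fin m → F) where
  toFun v := Sum.elim (fun i => ((l i)⁻¹ : Fˣ) * v (Sum.inl i)) (fun i => (l i : F) * v (Sum.inr i))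
  map_add' u v := by
    funext s
    cases s <;> simp [mul_add]
  map_smul' c v := by
    funext s
    cases s <;> simp [mul_left_comm]
  invFun v := Sum.elim (fun i => (l i : F) * v (Sum.inl i)) (fun i => ((l i)⁻¹ : Fˣ) * v (Sum.inr i))
  left_inv v := by
    funext s
    cases s <;> simp
  right_inv v := by
    funext s
    cases s <;> simp

theorem dg_inl (l : Fin m → Fˣ) (v : Fin m ⊕ Fin m → F) (i : Fin m) :
    dg l v (Sum.inl i) = ((l i)⁻¹ : Fˣ) * v (Sum.inl i) := rfl

theorem dg_inr (l : Fin m → Fˣ) (v : Fin m ⊕ Fin m → F) (i : Fin m) :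
    dg l v (Sum.inr i) = (l i : F) * v (Sum.inr i) := rfl

theorem isIso_dg (l : Fin m → Fˣ) : (form m F).IsIso (dg l) := by
  intro u v
  rw [form_h, form_h, sympForm_eq_sum, sympForm_eq_sum]
  refine Finset.sum_congr rfl fun i _ => ?_
  rw [dg_inl, dg_inl, dg_inr, dg_inr]
  have h1 : (l i : F) * ((l i)⁻¹ : Fˣ) = 1 := Units.mul_inv (l i)
  linear_combination (u (Sum.inr i) * v (Sum.inl i) - u (Sum.inl i) * v (Sum.inr i)) * h1

/-- the scalars of a diagonal element on the frame -/
def fs (l : Fin m → Fˣ) (x : Fin m × Bool) : Fˣ := if x.2 then l x.1 else (l x.1)⁻¹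

theorem dg_b (l : Fin m → Fˣ) (x : Fin m × Bool) : dg l ((frame m F).b x) = (fs l x : F) • (frame m F).b x := by
  obtain ⟨i, s⟩ := x
  cases s
  · change dg l (f m F i) = _ • f m F i
    funext t
    rcases t with j | j
    · rw [dg_inl, Pi.smul_apply, f]
      by_cases hj : j = i
      · subst hj; simp [fs]
      · rw [Pi.single_eq_of_ne (by simpa using hj)]; simp
    · rw [dg_inr, Pi.smul_apply, f, Pi.single_eq_of_ne (by simp)]; simp
  · change dg l (e m F i) = _ • e m F i
    funext t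
    rcases t with j | j
    · rw [dg_inl, Pi.smul_apply, e, Pi.single_eq_of_ne (by simp)]; simp
    · rw [dg_inr, Pi.smul_apply, e]
      by_cases hj : j = i
      · subst hj; simp [fs]
      · rw [Pi.single_eq_of_ne (by simpa using hj)]; simp

theorem dg_mem_tor (l : Fin m → Fˣ) : dg l ∈ Tor (frame m F) (isos (form m F)) :=
  ⟨isIso_dg l, fun x => ⟨fs l x, (fs l x).ne_zero, dg_b l x⟩⟩

/-- two linear automorphisms which agree on the frame are equal -/
theorem ext_b {g k : (Fin m ⊕ Fin m → F) ≃ₗ[F] (Fin m ⊕ Fin m → F)}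
    (h : ∀ x, g ((frame m F).b x) = k ((frame m F).b x)) : g = k := by
  have h1 : (g : (Fin m ⊕ Fin m → F) →ₗ[F] (Fin m ⊕ Fin m → F)) = k := by
    refine LinearMap.ext_on span_ef ?_
    rintro _ (⟨i, rfl⟩ | ⟨i, rfl⟩)
    · exact h (i, true)
    · exact h (i, false)
  exact LinearEquiv.toLinearMap_injective h1

/-- the elements of the torus commute -/
theorem tor_comm {g k : (Fin m ⊕ Fin m → F) ≃ₗ[F] (Fin m ⊕ Fin m → F)}
    (hg : g ∈ Tor (frame m F) (isos (form m F))) (hk : k ∈ Tor (frame m F) (isos (form m F))) : g * k = k * g := by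
  refine ext_b fun x => ?_
  obtain ⟨a, -, ha⟩ := hg.2 x
  obtain ⟨b, -, hb⟩ := hk.2 x
  have ha' : g ((frame m F).b x) = a • (frame m F).b x := ha
  have hb' : k ((frame m F).b x) = b • (frame m F).b x := hb
  rw [mul_apply', mul_apply', ha', hb', map_smul, map_smul, ha', hb', smul_smul, smul_smul, mul_comm]

/-- the product of the scalars on opposite vectors -/
theorem scal_mul {g : (Fin m ⊕ Fin m → F) ≃ₗ[F] (Fin m ⊕ Fin m → F)} (hg : (form m F).IsIso g)
    {x : Fin m × Bool} {a b : F} (ha : g ((frame m F).b x) = a • (frame m F).b x)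
    (hb : g ((frame m F).b (ng x)) = b • (frame m F).b (ng x)) : a * b = 1 := by
  have h1 := hg ((frame m F).b x) ((frame m F).b (ng x))
  rw [ha, hb, (form m F).smul_left, (form m F).smul_right, form_σ] at h1
  have h2 : (form m F).h ((frame m F).b x) ((frame m F).b (ng x)) ≠ 0 := by
    have h3 := (frame m F).hb_self_neg x
    have h4 : (ng x) = neg x := rfl
    rw [h4, h3]
    exact (frame m F).η_ne _
  rw [← mul_assoc] at h1
  exact mul_right_cancel₀ h2 (by rw [h1, one_mul])

/-- the opposition element -/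
def jj (m : ℕ) (F : Type*) [Field F] : (Fin m ⊕ Fin m → F) ≃ₗ[F] (Fin m ⊕ Fin m → F) where
  toFun v := Sum.elim (fun i => v (Sum.inr i)) (fun i => -v (Sum.inl i))
  map_add' u v := by
    funext s
    cases s <;> simp [add_comm]
  map_smul' c v := by
    funext s
    cases s <;> simp
  invFun v := Sum.elim (fun i => -v (Sum.inr i)) (fun i => v (Sum.inl i))
  left_inv v := by
    funext s
    cases s <;> simp
  right_inv v := by
    funext s
    cases s <;> simp

theorem jj_inl (v : Fin m ⊕ Fin m → F) (i : Fin m) : jj m F v (Sum.inl i) = v (Sum.inr i) := rfl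
theorem jj_inr (v : Fin m ⊕ Fin m → F) (i : Fin m) : jj m F v (Sum.inr i) = -v (Sum.inl i) := rfl

theorem isIso_jj : (form m F).IsIso (jj m F) := by
  intro u v
  rw [form_h, form_h, sympForm_eq_sum, sympForm_eq_sum]
  refine Finset.sum_congr rfl fun i _ => ?_
  rw [jj_inl, jj_inl, jj_inr, jj_inr]
  ring

/-- the sign -/
def js (x : Fin m × Bool) : F := if x.2 then 1 else -1

theorem js_ne (x : Fin m × Bool) : (js x : F) ≠ 0 := by
  unfold js
  split_ifs
  · exact one_ne_zero
  · exact neg_ne_zero.2 one_ne_zero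

theorem jj_b (x : Fin m × Bool) : jj m F ((frame m F).b x) = (js x : F) • (frame m F).b (ng x) := by
  obtain ⟨i, s⟩ := x
  cases s
  · change jj m F (f m F i) = _ • e m F i
    funext t
    rcases t with j | j
    · rw [jj_inl, Pi.smul_apply, f, e, Pi.single_eq_of_ne (by simp), Pi.single_eq_of_ne (by simp)]; simp
    · rw [jj_inr, Pi.smul_apply, f, e]
      by_cases hj : j = i
      · subst hj; simp [js]
      · rw [Pi.single_eq_of_ne (by simpa using hj), Pi.single_eq_of_ne (by simpa using hj)]; simp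
  · change jj m F (e m F i) = _ • f m F i
    funext t
    rcases t with j | j
    · rw [jj_inl, Pi.smul_apply, f, e]
      by_cases hj : j = i
      · subst hj; simp [js]
      · rw [Pi.single_eq_of_ne (by simpa using hj), Pi.single_eq_of_ne (by simpa using hj)]; simp
    · rw [jj_inr, Pi.smul_apply, f, e, Pi.single_eq_of_ne (by simp), Pi.single_eq_of_ne (by simp)]; simp

theorem mono_jj : Mono (frame m F) (jj m F) ng := fun x => ⟨js x, js_ne x, jj_b x⟩

/-- `jj² = -1` -/
theorem jj_jj (v : Fin m ⊕ Fin m → F) : jj m F (jj m F v) = (-1 : F) • v := by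
  funext s
  rcases s with i | i
  · rw [jj_inl, jj_inr]; simp
  · rw [jj_inr, jj_inl]; simp

theorem jj_sq_comm (g : (Fin m ⊕ Fin m → F) ≃ₗ[F] (Fin m ⊕ Fin m → F)) : jj m F * jj m F * g = g * (jj m F * jj m F) := by
  ext1 v
  change jj m F (jj m F (g v)) = g (jj m F (jj m F v))
  rw [jj_jj, jj_jj, map_smul]

/-- `jj t⁻¹ jj⁻¹ = t` for `t` in the torus -/
theorem jj_tor {g : (Fin m ⊕ Fin m → F) ≃ₗ[F] (Fin m ⊕ Fin m → F)} (hg : g ∈ Tor (frame m F) (isos (form m F))) :
    jj m F * g⁻¹ * (jj m F)⁻¹ = g := by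
  have h1 : g * jj m F * g = jj m F := by
    refine ext_b fun x => ?_
    obtain ⟨a, -, ha⟩ := hg.2 x
    obtain ⟨b, -, hb⟩ := hg.2 (ng x)
    have ha' : g ((frame m F).b x) = a • (frame m F).b x := ha
    have hb' : g ((frame m F).b (ng x)) = b • (frame m F).b (ng x) := hb
    have h2 := scal_mul hg.1 ha' hb'
    rw [mul_apply', mul_apply', ha', map_smul, jj_b, map_smul, map_smul, hb', smul_smul, smul_smul]
    congr 1
    linear_combination (js x : F) * h2
  rw [mul_inv_eq_iff_eq_mul, mul_inv_eq_iff_eq_mul]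
  exact h1.symm

/-- every tuple of scalars on the simple root groups occurs (perfect fields of characteristic two) -/
theorem exists_scal (hsq : ∀ c : Fˣ, ∃ s : Fˣ, s * s = c) (c : Fin m → Fˣ) :
    ∃ l : Fin m → Fˣ, (∀ (i : Fin m) (hi : (i : ℕ) + 1 < m), l i * (l ⟨i + 1, hi⟩)⁻¹ = c i) ∧
      ∀ i : Fin m, ¬ (i : ℕ) + 1 < m → l i * l i = c i := by
  classical
  rcases Nat.eq_zero_or_pos m with hm | hm
  · subst hm
    exact ⟨c, fun i => i.elim0, fun i => i.elim0⟩
  let z : Fin m := ⟨m - 1, by omega⟩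
  obtain ⟨s, hs⟩ := hsq (c z)
  let S : Fin m → Finset (Fin m) := fun i => Finset.univ.filter fun j => i ≤ j ∧ (j : ℕ) + 1 < m
  refine ⟨fun i => s * ∏ j ∈ S i, c j, fun i hi => ?_, fun i hi => ?_⟩
  · have h1 : S i = insert i (S ⟨i + 1, hi⟩) := by
      ext j
      simp only [S, Finset.mem_filter, Finset.mem_univ, true_and, Finset.mem_insert, Fin.le_def]
      constructor
      · rintro ⟨h1, h2⟩
        by_cases hj : (j : ℕ) = i
        · left; exact Fin.ext hj
        · right; exact ⟨by omega, h2⟩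
      · rintro (rfl | ⟨h1, h2⟩)
        · exact ⟨le_rfl, hi⟩
        · exact ⟨by omega, h2⟩
    have h2 : i ∉ S ⟨i + 1, hi⟩ := by
      simp only [S, Finset.mem_filter, Finset.mem_univ, true_and, Fin.le_def]
      omega
    simp only
    rw [h1, Finset.prod_insert h2]
    have : s * (c i * ∏ j ∈ S ⟨i + 1, hi⟩, c j) * (s * ∏ j ∈ S ⟨i + 1, hi⟩, c j)⁻¹ = c i := by
      rw [mul_left_comm, mul_inv_cancel_right]
    exact this
  · have h1 : S i = ∅ := by
      ext j
      simp only [S, Finset.mem_filter, Finset.mem_univ, true_and, Fin.le_def, Finset.notMem_empty, iff_false]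
      omega
    have h2 : i = z := Fin.ext (by change (i : ℕ) = m - 1; omega)
    simp only
    rw [h1, Finset.prod_empty, mul_one, hs, h2]

end Cfsg.Agent.H148.SP
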