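import Cfsg.Agent.H148.SP.Main
import Cfsg.Agent.H673.OC.Fix

/-!
# S4884, helper148: `PSp_{2m}` as a functor of the field

* `psmap σ : PSp m F →* PSp m F'`, `psmap_comp`, `psmap_id`, `psmap_injective`, `psEquiv`;
* `psmap_hm` : `psmap σ` is compatible with the root group data.
-/

set_option autoImplicit false
set_option linter.unusedSectionVars false

namespace Cfsg.Agent.H148.SP

open Cfsg Cfsg.Agent.ClassicalGeometry.SympBasic
open Cfsg.Agent.ChevalleyStructure.CoxeterGeom Cfsg.Agent.Tits.Roots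
open Cfsg.Agent.Nodes Cfsg.Agent.Nodes.TypeC Cfsg.Agent.Nodes.WittRoot Cfsg.Agent.Nodes.WittRGD Cfsg.Agent.Nodes.WittAll
  Cfsg.Agent.Nodes.WittU
open Cfsg.Agent.Nodes.Comb Cfsg.Agent.Nodes.Reps Cfsg.Agent.Nodes.BNOf Cfsg.Agent.Nodes.RGDLib Cfsg.Agent.Nodes.Bruhat
open Cfsg.Agent.TitsThree Cfsg.Agent.TitsThree.Siegel Cfsg.Agent.TitsThree.WittFrame
  Cfsg.Agent.TitsThree.WittWeyl Cfsg.Agent.TitsThree.SpIdent Cfsg.Agent.TitsThree.FrameCN
open scoped Matrix

variable {m : ℕ} {F F' F'' : Type*} [Field F] [Field F'] [Field F'']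

/-! ### base change of vectors -/

/-- base change of vectors -/
def io (σ : F →+* F') (v : Fin m ⊕ Fin m → F) : Fin m ⊕ Fin m → F' := fun j => σ (v j)

theorem io_apply (σ : F →+* F') (v : Fin m ⊕ Fin m → F) (j : Fin m ⊕ Fin m) : io σ v j = σ (v j) := rfl

theorem io_add (σ : F →+* F') (v w : Fin m ⊕ Fin m → F) : io σ (v + w) = io σ v + io σ w :=
  funext fun _ => map_add σ _ _

theorem io_sub (σ : F →+* F') (v w : Fin m ⊕ Fin m → F) : io σ (v - w) = io σ v - io σ w :=
  funext fun _ => map_sub σ _ _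

theorem io_smul (σ : F →+* F') (c : F) (v : Fin m ⊕ Fin m → F) : io σ (c • v) = σ c • io σ v :=
  funext fun _ => map_mul σ _ _

theorem io_zero (σ : F →+* F') : io σ (0 : Fin m ⊕ Fin m → F) = 0 := funext fun _ => map_zero σ

theorem io_injective (σ : F →+* F') : Function.Injective (io (m := m) σ) := fun v w h =>
  funext fun j => σ.injective (congrFun h j)

theorem io_single (σ : F →+* F') (j : Fin m ⊕ Fin m) : io σ (Pi.single j 1) = Pi.single j 1 := by
  funext k
  rw [io_apply]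
  by_cases h : k = j
  · subst h; simp
  · rw [Pi.single_eq_of_ne h, Pi.single_eq_of_ne h, map_zero]

theorem io_b (σ : F →+* F') (x : Fin m × Bool) : io σ ((frame m F).b x) = (frame m F').b x := by
  obtain ⟨i, s⟩ := x
  cases s
  · exact io_single σ _
  · exact io_single σ _

theorem io_form (σ : F →+* F') (v w : Fin m ⊕ Fin m → F) :
    sympForm m F' (io σ v) (io σ w) = σ (sympForm m F v w) := by
  rw [sympForm_eq_sum, sympForm_eq_sum, map_sum]
  refine Finset.sum_congr rfl fun i _ => ?_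
  simp only [io_apply, map_sub, map_mul]

/-! ### related isometries -/

/-- related linear maps -/
def Rel (σ : F →+* F') (g : (Fin m ⊕ Fin m → F) ≃ₗ[F] (Fin m ⊕ Fin m → F))
    (g' : (Fin m ⊕ Fin m → F') ≃ₗ[F'] (Fin m ⊕ Fin m → F')) : Prop := ∀ v, g' (io σ v) = io σ (g v)

namespace Rel

variable {σ : F →+* F'} {g k : (Fin m ⊕ Fin m → F) ≃ₗ[F] (Fin m ⊕ Fin m → F)}
  {g' k' : (Fin m ⊕ Fin m → F') ≃ₗ[F'] (Fin m ⊕ Fin m → F')}

theorem mul (h : Rel σ g g') (h' : Rel σ k k') : Rel σ (g * k) (g' * k') := fun v => by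
  rw [mul_apply', mul_apply', h', h]

theorem one : Rel σ (1 : (Fin m ⊕ Fin m → F) ≃ₗ[F] (Fin m ⊕ Fin m → F)) 1 := fun _ => rfl

theorem unique (h : Rel σ g g') (h' : Rel σ g k') : g' = k' := ext_b fun x => by
  rw [← io_b σ x, h, h']

theorem mat (h : Rel σ g g') : SpIdent.mat g' = (SpIdent.mat g).map σ := by
  ext i j
  have h1 : ∀ (K : Type _) [Field K] (k : (Fin m ⊕ Fin m → K) ≃ₗ[K] (Fin m ⊕ Fin m → K)),
      SpIdent.mat k i j = k (Pi.single j 1) i := by
    intro K _ k
    rw [← mat_mulVec, Matrix.mulVec_single_one]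
    rfl
  rw [h1, Matrix.map_apply]
  have h2 : SpIdent.mat g i j = g (Pi.single j 1) i := by
    rw [← mat_mulVec, Matrix.mulVec_single_one]
    rfl
  rw [h2, ← io_single σ j, h]
  rfl

end Rel

theorem rel_sie (σ : F →+* F') {u w : Fin m ⊕ Fin m → F} {c : F} (hu : (form m F).h u u = 0) (hw : (form m F).h u w = 0)
    (hu' : (form m F').h (io σ u) (io σ u) = 0) (hw' : (form m F').h (io σ u) (io σ w) = 0) :
    Rel σ ((form m F).sie u w c hu hw) ((form m F').sie (io σ u) (io σ w) (σ c) hu' hw') := by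
  intro v
  rw [HForm.sie_apply, HForm.sie_apply]
  simp only [form_h, form_ε, io_form, io_add, io_sub, io_smul, map_mul, map_inv₀, map_neg, map_one]

theorem η_map (σ : F →+* F') (x : Fin m × Bool) : (frame m F').η x = σ ((frame m F).η x) := by
  unfold Frame.η
  split_ifs
  · simp
  · simp

theorem rel_X (σ : F →+* F') (x y : Fin m × Bool) (t : F) : Rel σ ((frame m F).X x y t) ((frame m F').X x y (σ t)) := by
  by_cases h : x.1 ≠ y.1
  · rw [Frame.X_eq _ h, Frame.X_eq _ h]
    have h1 : (frame m F').sc y (σ t) • (frame m F').b y = io σ ((frame m F).sc y t • (frame m F).b y) := by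
      rw [io_smul, io_b]
      congr 1
      simp only [Frame.sc, form_ε, form_σ, map_neg, map_mul, map_inv₀, map_one, η_map σ]
    have h2 := rel_sie σ (c := 0) ((frame m F).hb_self x) ((frame m F).h_smul_b h ((frame m F).sc y t))
      (by rw [io_b]; exact (frame m F').hb_self x) (by rw [io_b, ← h1]; exact (frame m F').h_smul_b h _)
    have h3 : (form m F').sie (io σ ((frame m F).b x)) (io σ ((frame m F).sc y t • (frame m F).b y)) (σ 0)
        (by rw [io_b]; exact (frame m F').hb_self x) (by rw [io_b, ← h1]; exact (frame m F').h_smul_b h _) =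
        (form m F').sie ((frame m F').b x) ((frame m F').sc y (σ t) • (frame m F').b y) 0 ((frame m F').hb_self x)
          ((frame m F').h_smul_b h _) :=
      (form m F').sie_congr _ _ _ _ (io_b σ x) h1.symm (map_zero σ)
    rw [h3] at h2
    exact h2
  · unfold Frame.X
    rw [dif_neg h, dif_neg h]
    exact Rel.one

theorem rel_Z (σ : F →+* F') (x : Fin m × Bool) (c : F) : Rel σ ((frame m F).Z x (adm c)) ((frame m F').Z x (adm (σ c))) := by
  rw [Z_adm, Z_adm]
  have h2 := rel_sie σ (c := c) (u := (frame m F).b x) (w := 0) (sympForm_self _) (sympForm_zero_right _)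
    (sympForm_self _) (by rw [io_zero]; exact sympForm_zero_right _)
  have h3 : (form m F').sie (io σ ((frame m F).b x)) (io σ 0) (σ c)
      (sympForm_self _) (by rw [io_zero]; exact sympForm_zero_right _) =
      (form m F').sie ((frame m F').b x) 0 (σ c) (sympForm_self _) (sympForm_zero_right _) :=
    (form m F').sie_congr _ _ _ _ (io_b σ x) (io_zero σ) rfl
  rw [h3] at h2
  exact h2

theorem smul_adm (a c : F) : (Frame.Adm.smul a (adm c) : (frame m F).Adm) = adm (a * a * c) := by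
  apply Frame.Adm.ext
  · rw [Frame.Adm.smul_w]
    exact smul_zero _
  · rw [Frame.Adm.smul_c, form_σ]
    rfl

theorem rel_nn (σ : F →+* F') (i : Fin m) : Rel σ (nn (frame m F) (adm 1) i) (nn (frame m F') (adm 1) i) := by
  unfold WittRGD.nn
  split_ifs with h
  · unfold nX
    have h1 := rel_X σ (i, true) (nx i) 1
    have h2 := rel_X σ (neg (nx i)) (neg (i, true)) (-1⁻¹)
    rw [map_one] at h1
    rw [map_neg, map_inv₀, map_one] at h2
    exact (h1.mul h2).mul h1
  · unfold nZ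
    have h1 := rel_Z σ (i, true) 1
    rw [map_one] at h1
    refine (h1.mul ?_).mul ?_
    · rw [smul_adm, smul_adm]
      have h2 := rel_Z σ (neg (i, true)) (-((frame m F).η (i, true) * ((form m F).σ (adm 1 : (frame m F).Adm).c)⁻¹) *
        -((frame m F).η (i, true) * ((form m F).σ (adm 1 : (frame m F).Adm).c)⁻¹) * 1)
      have h3 : σ (-((frame m F).η (i, true) * ((form m F).σ (adm 1 : (frame m F).Adm).c)⁻¹) *
        -((frame m F).η (i, true) * ((form m F).σ (adm 1 : (frame m F).Adm).c)⁻¹) * 1) =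
        -((frame m F').η (i, true) * ((form m F').σ (adm 1 : (frame m F').Adm).c)⁻¹) *
        -((frame m F').η (i, true) * ((form m F').σ (adm 1 : (frame m F').Adm).c)⁻¹) * 1 := by
        have h4 : (adm 1 : (frame m F).Adm).c = 1 := rfl
        have h5 : (adm 1 : (frame m F').Adm).c = 1 := rfl
        rw [h4, h5]
        simp only [form_σ, map_neg, map_mul, map_inv₀, map_one, η_map σ]
      rw [h3] at h2
      exact h2
    · rw [smul_adm, smul_adm]
      have h2 := rel_Z σ (i, true) ((form m F).ε * (adm 1 : (frame m F).Adm).c *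
          ((form m F).σ (adm 1 : (frame m F).Adm).c)⁻¹ * ((form m F).ε * (adm 1 : (frame m F).Adm).c *
          ((form m F).σ (adm 1 : (frame m F).Adm).c)⁻¹) * 1)
      have h3 : σ ((form m F).ε * (adm 1 : (frame m F).Adm).c *
          ((form m F).σ (adm 1 : (frame m F).Adm).c)⁻¹ * ((form m F).ε * (adm 1 : (frame m F).Adm).c *
          ((form m F).σ (adm 1 : (frame m F).Adm).c)⁻¹) * 1) = (form m F').ε * (adm 1 : (frame m F').Adm).c *
          ((form m F').σ (adm 1 : (frame m F').Adm).c)⁻¹ * ((form m F').ε * (adm 1 : (frame m F').Adm).c *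
          ((form m F').σ (adm 1 : (frame m F').Adm).c)⁻¹) * 1 := by
        have h4 : (adm 1 : (frame m F).Adm).c = 1 := rfl
        have h5 : (adm 1 : (frame m F').Adm).c = 1 := rfl
        rw [h4, h5]
        simp only [form_σ, form_ε, map_neg, map_mul, map_inv₀, map_one]
      rw [h3] at h2
      exact h2

theorem exists_rel (σ : F →+* F') {g : (Fin m ⊕ Fin m → F) ≃ₗ[F] (Fin m ⊕ Fin m → F)} (hg : g ∈ isos (form m F)) :
    ∃ g' ∈ isos (form m F'), Rel σ g g' := by
  let A : Matrix.symplecticGroup (Fin m) F := toSp ⟨g, hg⟩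
  let A' : Matrix.symplecticGroup (Fin m) F' := ⟨(A : Matrix _ _ F).map σ, SymplecticGroup.map_mem A.2 σ⟩
  refine ⟨ofSp A', ofSp_mem A', fun v => ?_⟩
  have h1 : g v = (A : Matrix _ _ F) *ᵥ v := (toSp_mulVec ⟨g, hg⟩ v).symm
  rw [h1, ofSp_apply]
  funext j
  change ((A : Matrix _ _ F).map σ *ᵥ io σ v) j = σ (((A : Matrix _ _ F) *ᵥ v) j)
  rw [RingHom.map_mulVec]
  rfl

/-! ### the functor -/

/-- base change of symplectic matrices -/
def spmap (σ : F →+* F') : Matrix.symplecticGroup (Fin m) F →* Matrix.symplecticGroup (Fin m) F' where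
  toFun A := ⟨(A : Matrix _ _ F).map σ, SymplecticGroup.map_mem A.2 σ⟩
  map_one' := Subtype.ext (by simp)
  map_mul' A B := Subtype.ext (by simp [Matrix.map_mul])

theorem spmap_toSp {σ : F →+* F'} {g : isos (form m F)} {g' : isos (form m F')} (h : Rel σ g.1 g'.1) :
    spmap σ (toSp g) = toSp g' := Subtype.ext h.mat.symm

theorem center_le (σ : F →+* F') : Subgroup.center (Matrix.symplecticGroup (Fin m) F) ≤
    (Subgroup.center (Matrix.symplecticGroup (Fin m) F')).comap (spmap σ) := by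
  intro A hA
  obtain ⟨g, rfl⟩ := toSp_surjective A
  have h1 : toPSp g = 1 := (QuotientGroup.eq_one_iff _).2 hA
  obtain ⟨a, -, ha⟩ := exists_smul_of_toPSp_eq_one h1
  obtain ⟨g', hg', hr⟩ := exists_rel σ g.2
  rw [Subgroup.mem_comap, spmap_toSp (g' := ⟨g', hg'⟩) hr, Subgroup.mem_center_iff]
  have h2 : ∀ v, g' v = σ a • v := by
    obtain ⟨z, hz⟩ : ∃ z : (Fin m ⊕ Fin m → F') →ₗ[F'] (Fin m ⊕ Fin m → F'), z = σ a • LinearMap.id := ⟨_, rfl⟩
    have h3 : (g' : (Fin m ⊕ Fin m → F') →ₗ[F'] (Fin m ⊕ Fin m → F')) = z := by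
      refine LinearMap.ext_on span_ef ?_
      have key : ∀ x, g' ((frame m F').b x) = z ((frame m F').b x) := by
        intro x
        rw [hz, ← io_b σ x, hr, ha, io_smul]
        rfl
      rintro _ (⟨i, rfl⟩ | ⟨i, rfl⟩)
      · exact key (i, true)
      · exact key (i, false)
    intro v
    have h4 := LinearMap.congr_fun h3 v
    rw [hz] at h4
    exact h4
  intro B
  obtain ⟨k, rfl⟩ := toSp_surjective B
  rw [← map_mul, ← map_mul]
  congr 1
  apply Subtype.ext
  ext1 v
  change k.1 (g' v) = g' (k.1 v)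
  rw [h2, h2, map_smul]

/-- **the functor** -/
def psmap (σ : F →+* F') : PSp m F →* PSp m F' := QuotientGroup.map _ _ (spmap σ) (center_le σ)

theorem psmap_toPSp {σ : F →+* F'} {g : (Fin m ⊕ Fin m → F) ≃ₗ[F] (Fin m ⊕ Fin m → F)}
    {g' : (Fin m ⊕ Fin m → F') ≃ₗ[F'] (Fin m ⊕ Fin m → F')} (hg : g ∈ isos (form m F)) (hg' : g' ∈ isos (form m F'))
    (h : Rel σ g g') : psmap σ (toPSp ⟨g, hg⟩) = toPSp ⟨g', hg'⟩ := by
  change psmap σ (QuotientGroup.mk' _ (toSp ⟨g, hg⟩)) = QuotientGroup.mk' _ (toSp ⟨g', hg'⟩)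
  rw [← spmap_toSp (g := ⟨g, hg⟩) (g' := ⟨g', hg'⟩) h]
  rfl

theorem psmap_comp (σ : F →+* F') (τ : F' →+* F'') (k : PSp m F) : psmap τ (psmap σ k) = psmap (τ.comp σ) k := by
  obtain ⟨⟨g, hg⟩, rfl⟩ := toPSp_surjective k
  obtain ⟨g', hg', h1⟩ := exists_rel σ hg
  obtain ⟨g'', hg'', h2⟩ := exists_rel τ hg'
  rw [psmap_toPSp hg hg' h1, psmap_toPSp hg' hg'' h2, psmap_toPSp (σ := τ.comp σ) hg hg'']
  intro v
  have h3 := h2 (io σ v)
  rw [h1 v] at h3
  exact h3

theorem psmap_id (k : PSp m F) : psmap (RingHom.id F) k = k := by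
  obtain ⟨⟨g, hg⟩, rfl⟩ := toPSp_surjective k
  rw [psmap_toPSp hg hg]
  intro v
  rfl

/-- isomorphic fields -/
def psEquiv (σ : F ≃+* F') : PSp m F ≃* PSp m F' where
  toFun := psmap (σ : F →+* F')
  invFun := psmap (σ.symm : F' →+* F)
  left_inv k := by
    rw [psmap_comp]
    have : (σ.symm : F' →+* F).comp (σ : F →+* F') = RingHom.id F := by ext x; simp
    rw [this, psmap_id]
  right_inv k := by
    rw [psmap_comp]
    have : (σ : F →+* F').comp (σ.symm : F' →+* F) = RingHom.id F' := by ext x; simp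
    rw [this, psmap_id]
  map_mul' := map_mul _

/-- `toPSp` is injective in characteristic two -/
theorem toPSp_injective [CharP F 2] : Function.Injective (toPSp (m := m) (F := F)) := by
  rw [injective_iff_map_eq_one]
  intro g hg
  obtain ⟨a, ha, h⟩ := exists_smul_of_toPSp_eq_one hg
  have h1 : a = 1 := by
    have h2 : (a - 1) ^ 2 = 0 := by
      have h3 : (2 : F) = 0 := CharTwo.two_eq_zero
      linear_combination ha + (1 - a) * h3
    exact sub_eq_zero.1 (pow_eq_zero_iff two_ne_zero |>.1 h2)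
  apply Subtype.ext
  ext1 v
  rw [h v, h1, one_smul]
  rfl

theorem psmap_injective [CharP F 2] [CharP F' 2] (σ : F →+* F') : Function.Injective (psmap (m := m) σ) := by
  rw [injective_iff_map_eq_one]
  intro k hk
  obtain ⟨⟨g, hg⟩, rfl⟩ := toPSp_surjective k
  obtain ⟨g', hg', h1⟩ := exists_rel σ hg
  rw [psmap_toPSp hg hg' h1, ← map_one toPSp] at hk
  have h2 := congrArg Subtype.val (toPSp_injective hk)
  have h3 : (⟨g, hg⟩ : isos (form m F)) = 1 := by
    apply Subtype.ext
    ext1 v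
    apply io_injective σ
    rw [← h1 v]
    have h4 : g' = 1 := h2
    rw [h4]
    rfl
  rw [h3, map_one]

theorem psmap_y (σ : F →+* F') (i : Fin m) (c : F) :
    psmap σ (y i (Multiplicative.ofAdd c)) = y i (Multiplicative.ofAdd (σ c)) := by
  rw [y_apply, y_apply]
  refine psmap_toPSp _ _ ?_
  unfold gl
  split_ifs
  · exact rel_X σ _ _ _
  · exact rel_Z σ _ _

/-- **the compatibility with the root group data** -/
theorem psmap_hm [CharP F 2] [CharP F' 2] {W : Type*} [Group W] (cs : CoxeterSystem (CoxeterMatrix.B m) W) (σ : F →+* F') :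
    H673.OC.Hm cs (isCartan m) (WittModel.T (KInstSp.model m F))
      (fun i => (KInstSp.model m F).φ ⟨nn (frame m F) (adm 1) i,
        nn_mem (AmbT.of_amb (amb_Sp (F := F) (m := m)) 2) (adm 1) i⟩) (WittModel.X (KInstSp.model m F))
      (WittModel.T (KInstSp.model m F'))
      (fun i => (KInstSp.model m F').φ ⟨nn (frame m F') (adm 1) i,
        nn_mem (AmbT.of_amb (amb_Sp (F := F') (m := m)) 2) (adm 1) i⟩) (WittModel.X (KInstSp.model m F'))
      (psmap σ) where
  T t ht := by
    obtain ⟨g, hg, hT, rfl⟩ := mem_T.1 ht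
    obtain ⟨g', hg', h1⟩ := exists_rel σ hg
    rw [psmap_toPSp hg hg' h1]
    refine mem_T.2 ⟨g', hg', ⟨hg', fun x => ?_⟩, rfl⟩
    obtain ⟨a, ha0, ha⟩ := hT.2 x
    refine ⟨σ a, (map_ne_zero σ).2 ha0, ?_⟩
    rw [← io_b σ x, h1, ha, io_smul, id, io_b]
  n i := psmap_toPSp _ _ (rel_nn σ i)
  X z hz _ u hu := by
    obtain ⟨g, hg, hgx, rfl⟩ := WittModel.mem_X (KInstSp.model m F) |>.1 hu
    obtain ⟨a, b, hab, ex⟩ := exists_of_isRoot cs hz
    rw [rg_eq _ hab ex] at hgx
    obtain ⟨g', hg', h1⟩ := exists_rel σ hg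
    have e : psmap σ ((KInstSp.model m F).φ ⟨g, hg⟩) = (KInstSp.model m F').φ ⟨g', hg'⟩ := psmap_toPSp hg hg' h1
    rw [e]
    refine WittModel.mem_X_of _ hg' ?_
    rw [rg_eq _ hab ex]
    rcases hab with hab | hab
    · rw [PG_ne _ hab] at hgx ⊢
      obtain ⟨t, rfl⟩ := hgx
      exact ⟨σ t, h1.unique (rel_X σ a b t)⟩
    · subst hab
      rw [PG_self] at hgx ⊢
      obtain ⟨q, rfl⟩ := hgx
      have h2 := rel_Z σ a q.c
      rw [← eq_adm] at h2
      exact ⟨adm (σ q.c), h1.unique h2⟩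

end Cfsg.Agent.H148.SP
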