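import Cfsg.Agent.H148.SP.Map
import Cfsg.Agent.H148.SP.Row
import Cfsg.Agent.H148.SP.RowZero
import Cfsg.Agent.H673.OC.Frame
import Cfsg.Agent.H277.ClsPsp

/-!
# S4884, helper148: `RowB q (PSp_{2m}(2))`, `m ≥ 3`

* `galAct` : the action of the Galois group on `PSp_{2m}(L)`; `fx` : the hypotheses of the fixed point theory of helper673;
* `rowB_psp_zmod`, `rowB_psp_two` : the row of `PSp_{2m}(F)`, `|F| = 2`;
* `rowB_psp_all` : `F` finite of characteristic two.
-/

set_option autoImplicit false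
set_option linter.unusedSectionVars false

namespace Cfsg.Agent.H148.SP

open Cfsg Cfsg.Agent.ClassicalGeometry.SympBasic
open Cfsg.Agent.ChevalleyStructure.CoxeterGeom Cfsg.Agent.Tits.Roots
open Cfsg.Agent.Nodes Cfsg.Agent.Nodes.TypeC Cfsg.Agent.Nodes.WittRoot Cfsg.Agent.Nodes.WittRGD Cfsg.Agent.Nodes.WittAll
  Cfsg.Agent.Nodes.WittU
open Cfsg.Agent.Nodes.Comb Cfsg.Agent.Nodes.Reps Cfsg.Agent.Nodes.BNOf Cfsg.Agent.Nodes.RGDLib Cfsg.Agent.Nodes.Bruhat
open Cfsg.Agent.TitsThree Cfsg.Agent.TitsThree.Siegel Cfsg.Agent.TitsThree.WittFrame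
  Cfsg.Agent.TitsThree.WittWeyl Cfsg.Agent.TitsThree.SpIdent Cfsg.Agent.TitsThree.FrameCN
open Cfsg.Agent.H148.GG Cfsg.Agent.H40.OC

variable {m : ℕ} {L : Type*} [Field L]

/-- the action of the Galois group -/
@[instance_reducible]
def galAct (m : ℕ) (L : Type*) [Field L] [Algebra (ZMod 2) L] : MulDistribMulAction (L ≃ₐ[ZMod 2] L) (PSp m L) where
  smul s k := psmap (s : L →+* L) k
  one_smul k := psmap_id k
  mul_smul s t k := (psmap_comp (t : L →+* L) (s : L →+* L) k).symm
  smul_one s := map_one (psmap (s : L →+* L))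
  smul_mul s a b := map_mul (psmap (s : L →+* L)) a b

theorem zmod_two : ∀ a : ZMod 2, a ≠ 0 → a = 1 := by decide

/-- elements of `L` fixed by the Galois group -/
theorem fixed_of [Finite L] [Algebra (ZMod 2) L] {c : L} (hc : ∀ s : L ≃ₐ[ZMod 2] L, s c = c) :
    ∃ a : ZMod 2, algebraMap (ZMod 2) L a = c := by
  have : FiniteDimensional (ZMod 2) L := Module.Finite.of_finite
  exact (IsGalois.mem_range_algebraMap_iff_fixed (F := ZMod 2) (E := L) c).2 hc

theorem fx [Finite L] [Algebra (ZMod 2) L] [CharP L 2] {W : Type*} [Group W] (cs : CoxeterSystem (CoxeterMatrix.B m) W) :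
    letI := galAct m L
    H673.OC.Fx cs (isCartan m) (WittModel.T (KInstSp.model m (ZMod 2)))
      (fun i => (KInstSp.model m (ZMod 2)).φ ⟨nn (frame m (ZMod 2)) (adm 1) i,
        nn_mem (AmbT.of_amb (amb_Sp (F := ZMod 2) (m := m)) 2) (adm 1) i⟩) (WittModel.X (KInstSp.model m (ZMod 2)))
      (WittModel.T (KInstSp.model m L))
      (fun i => (KInstSp.model m L).φ ⟨nn (frame m L) (adm 1) i,
        nn_mem (AmbT.of_amb (amb_Sp (F := L) (m := m)) 2) (adm 1) i⟩) (WittModel.X (KInstSp.model m L))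
      (psmap (algebraMap (ZMod 2) L)) (L ≃ₐ[ZMod 2] L) :=
  letI := galAct m L
  { hm := psmap_hm cs _
    inj := psmap_injective _
    act := fun s => psmap_hm cs (s : L →+* L)
    fix := fun s k => by
      change psmap (s : L →+* L) (psmap (algebraMap (ZMod 2) L) k) = _
      rw [psmap_comp]
      congr 1
      congr 1
      exact RingHom.ext fun a => s.commutes a
    fT := fun t ht hfix => by
      obtain ⟨g, hg, hT, rfl⟩ := mem_T.1 ht
      refine ⟨1, one_mem _, ?_⟩
      rw [map_one]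
      have h1 : g = 1 := by
        refine ext_b fun x => ?_
        obtain ⟨a, ha0, ha⟩ := hT.2 x
        have ha' : g ((frame m L).b x) = a • (frame m L).b x := ha
        obtain ⟨a0, rfl⟩ := fixed_of (c := a) fun s => by
          obtain ⟨g', hg', h1⟩ := exists_rel (s : L →+* L) hg
          have h2 : psmap (s : L →+* L) (toPSp ⟨g, hg⟩) = toPSp ⟨g, hg⟩ := hfix s
          rw [psmap_toPSp hg hg' h1] at h2
          have h3 : g' = g := congrArg Subtype.val (toPSp_injective h2)
          subst h3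
          have h4 := h1 ((frame m L).b x)
          rw [io_b, ha', io_smul, io_b] at h4
          have h5 : ((s : L →+* L) a - a) • (frame m L).b x = 0 := by rw [sub_smul, h4, sub_self]
          rcases smul_eq_zero.1 h5 with h6 | h6
          · exact sub_eq_zero.1 h6
          · exact absurd h6 (b_ne_zero _)
        have h2 : a0 = 1 := zmod_two a0 fun h => ha0 (by rw [h, map_zero])
        rw [ha', h2, map_one, one_smul]
        rfl
      subst h1
      exact (map_one toPSp).symm
    fX := fun i x hx hfix => by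
      rw [← y_range] at hx
      obtain ⟨c, rfl⟩ := hx
      obtain ⟨a, ha⟩ := fixed_of (c := Multiplicative.toAdd c) fun s => by
        have h1 : psmap (s : L →+* L) (y i (Multiplicative.ofAdd (Multiplicative.toAdd c))) =
          y i (Multiplicative.ofAdd (Multiplicative.toAdd c)) := hfix s
        rw [psmap_y] at h1
        exact Multiplicative.ofAdd.injective (y_inj i h1)
      refine ⟨y i (Multiplicative.ofAdd a), ?_, ?_⟩
      · rw [← y_range]
        exact ⟨_, rfl⟩
      · rw [psmap_y, ha]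
        rfl }

/-- the order in characteristic two -/
theorem card_psp_two {F : Type*} [Field F] [Finite F] [CharP F 2] (hm : 1 ≤ m) {k : ℕ} (hk : k ≠ 0) (hF : Nat.card F = 2 ^ k) :
    Nat.card (PSp m F) = (2 ^ k) ^ (m ^ 2) * ∏ i ∈ Finset.range m, ((2 ^ k) ^ (2 * (i + 1)) - 1) := by
  have := Fintype.ofFinite F
  have h1 := H277.ClsPsp.card_psp (F := F) (q := 2 ^ k) (by rw [← Nat.card_eq_fintype_card]; exact hF) hm
  have h2 : Nat.gcd 2 (2 ^ k - 1) = 1 := by
    have h3 : ¬ 2 ∣ 2 ^ k - 1 := by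
      have h4 : 2 ∣ 2 ^ k := dvd_pow_self 2 hk
      have h5 : 0 < 2 ^ k := by positivity
      omega
    exact (Nat.Prime.coprime_iff_not_dvd Nat.prime_two).2 h3
  rw [h2, one_mul] at h1
  exact h1

theorem not_comm {F : Type*} [Field F] [Finite F] [CharP F 2] (hm : 2 ≤ m) (hm2 : m = 2 → 3 ≤ Nat.card F) :
    ¬ IsMulCommutative (PSp m F) := by
  intro hc
  have := Fintype.ofFinite F
  have hs : IsSimpleGroup (PSp m F) := Cfsg.Agent.S0270.result m hm fun h => by
    rw [← Nat.card_eq_fintype_card]; exact hm2 h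
  obtain ⟨⟨k, hk⟩, -, hF⟩ := FiniteField.card F 2
  rw [← Nat.card_eq_fintype_card] at hF
  replace hk : k ≠ 0 := by omega
  replace hF : Nat.card F = 2 ^ k := hF
  letI : CommGroup (PSp m F) := { (inferInstance : Group (PSp m F)) with mul_comm := fun a b => hc.1.1 a b }
  have h1 : (Nat.card (PSp m F)).Prime := IsSimpleGroup.prime_card
  rw [card_psp_two (m := m) (F := F) (by omega) hk hF] at h1
  have h2 : 2 * 2 ∣ (2 ^ k) ^ (m ^ 2) := by
    rw [← pow_mul, ← pow_two]
    refine pow_dvd_pow 2 ?_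
    have h3 : 1 ≤ k := Nat.one_le_iff_ne_zero.2 hk
    nlinarith
  have h3 := h2.trans (Dvd.intro (∏ i ∈ Finset.range m, ((2 ^ k) ^ (2 * (i + 1)) - 1)) rfl)
  have h4 := (Nat.prime_dvd_prime_iff_eq Nat.prime_two h1).1 (dvd_of_mul_right_dvd h3)
  rw [← h4] at h3
  exact absurd (Nat.le_of_dvd (by norm_num) h3) (by norm_num)

/-- **`PSp_{2m}(2)`, `m ≥ 3`** -/
theorem rowB_psp_zmod (hm : 3 ≤ m) {q : ℕ} (hq : q.Prime) (hq2 : q ≠ 2) (hd : q ∣ Nat.card (PSp m (ZMod 2))) :
    H706.PB.RowB q (PSp m (ZMod 2)) := by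
  have : Finite (CoxeterMatrix.B m).Group := finite_W (CoxeterMatrix.B m).toCoxeterSystem
  have : Finite (PSp m (ZMod 2)) := inferInstance
  obtain ⟨r, hr1, hr⟩ := Nat.exists_infinite_primes (2 * Nat.card (PSp m (ZMod 2)) + 1)
  have : Fact r.Prime := ⟨hr⟩
  have hr0 : r ≠ 0 := hr.ne_zero
  have hc2 : Nat.card (PSp m (ZMod 2)) = 2 ^ (m ^ 2) * ∏ i ∈ Finset.range m, (2 ^ (2 * (i + 1)) - 1) := by
    have h1 := card_psp_two (m := m) (F := ZMod 2) (by omega) (k := 1) one_ne_zero (by simp)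
    rw [pow_one] at h1
    exact h1
  have hL : Nat.card (GaloisField 2 r) = 2 ^ r := GaloisField.card 2 r hr0
  have hcr := card_psp_two (m := m) (F := GaloisField 2 r) (by omega) hr0 hL
  have hL2 : 2 < Nat.card (GaloisField 2 r) := by
    rw [hL]
    have h1 : 2 ≤ r := hr.two_le
    calc 2 < 2 ^ 2 := by norm_num
      _ ≤ 2 ^ r := Nat.pow_le_pow_right (by norm_num) h1
  letI := galAct m (GaloisField 2 r)
  have hS : IsPGroup r (GaloisField 2 r ≃ₐ[ZMod 2] GaloisField 2 r) := by
    refine IsPGroup.of_card (n := 1) ?_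
    rw [IsGalois.card_aut_eq_finrank, GaloisField.finrank 2 hr0, pow_one]
  have hm0 : 0 < m := by omega
  have hZ := center_psp (m := m) (F := ZMod 2) (by omega) (fun h => by omega)
    (not_comm (F := ZMod 2) (by omega) (fun h => by omega))
  have hZ' := center_psp (m := m) (F := GaloisField 2 r) (by omega) (fun h => by omega)
    (not_comm (F := GaloisField 2 r) (by omega) (fun h => by omega))
  have h0 := H673.OC.mG_zero (rgd (m := m) (F := ZMod 2) (CoxeterMatrix.B m).toCoxeterSystem) (adj m (ZMod 2))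
    (rgd (m := m) (F := GaloisField 2 r) (CoxeterMatrix.B m).toCoxeterSystem) (adj m (GaloisField 2 r))
    (GG_eq_top hm0 _) (GG_eq_top hm0 _) (fun i => ((par m (ZMod 2) exists_sqrt).e i).symm.injective)
    (fun i => ((par m (GaloisField 2 r) exists_sqrt).e i).symm.injective)
    hS (fx _) (by omega)
    (H673.OC.fac_of_card (Finset.range m) (fun i => 2 * (i + 1)) (fun i _ => by omega) hr hc2 hcr (by omega))
    (mG_zero_of_anti _ _ (GG_eq_top hm0 _) (hT hm0 hZ') (anti hm0 _) (hN (by omega) hL2 _))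
  have h1 := rowB_of_zero (rgd (m := m) (F := ZMod 2) (CoxeterMatrix.B m).toCoxeterSystem) (adj m (ZMod 2)) (GG_eq_top hm0 _)
    (hT hm0 hZ) h0 (S := ⊤) le_top hq hq2 (by rwa [Subgroup.card_top])
  exact h1.congr Subgroup.topEquiv.symm

/-- the field with two elements -/
theorem exists_zmod_two {F : Type*} [Field F] (hF : Nat.card F = 2) : Nonempty (ZMod 2 ≃+* F) := by
  have : Finite F := Nat.finite_of_card_ne_zero (by omega)
  have := Fintype.ofFinite F
  rw [Nat.card_eq_fintype_card] at hF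
  exact ⟨ZMod.ringEquivOfPrime F Nat.prime_two hF⟩

/-- **`PSp_{2m}(F)`, `|F| = 2`, `m ≥ 3`** -/
theorem rowB_psp_two {F : Type*} [Field F] (hm : 3 ≤ m) (hF : Nat.card F = 2) {q : ℕ} (hq : q.Prime) (hq2 : q ≠ 2)
    (hd : q ∣ Nat.card (PSp m F)) : H706.PB.RowB q (PSp m F) := by
  obtain ⟨σ⟩ := exists_zmod_two hF
  have e := psEquiv (m := m) σ
  have : Finite (PSp m F) := Finite.of_equiv _ e.toEquiv
  exact (rowB_psp_zmod hm hq hq2 (by rwa [Nat.card_congr e.toEquiv])).congr e.symm

/-- **`PSp_{2m}(q)`, `q` even** -/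
theorem rowB_psp_all {F : Type} [Field F] [Finite F] [CharP F 2] (hm : 2 ≤ m) (hF : m = 2 → 3 ≤ Nat.card F) {q : ℕ}
    (hq : q.Prime) (hq2 : q ≠ 2) (hd : q ∣ Nat.card (PSp m F)) : H706.PB.RowB q (PSp m F) := by
  by_cases h2 : 2 < Nat.card F
  · exact rowB_psp hm h2 (not_comm hm hF) hq hq2 hd
  · have h3 : 1 < Nat.card F := Finite.one_lt_card
    exact rowB_psp_two (by
      by_contra h4
      have h5 : m = 2 := by omega
      have := hF h5
      omega) (by omega) hq hq2 hd

end Cfsg.Agent.H148.SP
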